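import Groth.Agent.Lib.RegLoc.Quotient
import Mathlib.AlgebraicGeometry.EllipticCurve.Affine.Point
import Mathlib.RingTheory.RegularLocalRing.Polynomial
import Mathlib.Algebra.DualNumber
import Mathlib.RingTheory.LocalRing.ResidueField.Ideal
import Mathlib.RingTheory.DedekindDomain.Basic
import Mathlib.RingTheory.DiscreteValuationRing.Basic

/-!
# Regularity of a Weierstrass scheme over a discrete valuation ring
-/

set_option autoImplicit false
set_option linter.style.haveILetI false
set_option backward.isDefEq.respectTransparency false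
universe u

open Polynomial IsLocalRing
open scoped Polynomial.Bivariate

namespace Groth.Agent.WeiReg22

/-- A quotient of a regular ring by `f` is regular at primes where `f` has order one. -/
theorem isRegularLocalRing_of_notMem_sq {B : Type u} [CommRing B] [IsRegularRing B] (f : B)
    (P : Ideal (B ⧸ Ideal.span ({f} : Set B))) [P.IsPrime]
    (h : ∀ s ∉ P.comap (Ideal.Quotient.mk (Ideal.span ({f} : Set B))),
      s * f ∉ P.comap (Ideal.Quotient.mk (Ideal.span ({f} : Set B))) ^ 2) :
    IsRegularLocalRing (Localization.AtPrime P) := by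
  set q := P.comap (Ideal.Quotient.mk (Ideal.span ({f} : Set B)))
  have hfq : f ∈ q := by
    rw [Ideal.mem_comap, Ideal.Quotient.eq_zero_iff_mem.2 (Ideal.mem_span_singleton_self f)]
    exact zero_mem _
  have hfm : algebraMap B (Localization.AtPrime q) f ∈ maximalIdeal (Localization.AtPrime q) := by
    rw [← Localization.AtPrime.map_eq_maximalIdeal]; exact Ideal.mem_map_of_mem _ hfq
  have hf2 : algebraMap B (Localization.AtPrime q) f ∉ maximalIdeal (Localization.AtPrime q) ^ 2 := by
    rw [← Localization.AtPrime.map_eq_maximalIdeal, ← Ideal.map_pow,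
      IsLocalization.algebraMap_mem_map_algebraMap_iff q.primeCompl]
    rintro ⟨s, hs, hsf⟩
    exact h s hs hsf
  have := IsRegularRing.isRegularLocalRing_localization q
  obtain ⟨_, -⟩ := RegLoc.quotient_span_singleton hfm hf2
  have : IsRegularLocalRing (Localization.AtPrime q ⧸
      (Ideal.span ({f} : Set B)).map (algebraMap B (Localization.AtPrime q))) :=
    IsRegularLocalRing.of_ringEquiv (Ideal.quotEquivOfEq (by rw [Ideal.map_span, Set.image_singleton]))
  exact RegLoc.isRegularLocalRing_localization_quotient _ P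

variable {R : Type u} [CommRing R] (W : WeierstrassCurve.Affine R)

/-- If `s f` lies in `q ^ 2` with `s ∉ q`, then both partials vanish at the generic point of `q`. -/
theorem partials_of_mem_sq (q : Ideal R[X][Y]) {K : Type u} [Field K] (φ : R →+* K) (x y : K)
    (hq : ∀ b : R[X][Y], b ∈ q ↔ eval₂ (eval₂RingHom φ x) y b = 0)
    (hf : W.polynomial ∈ q) {s : R[X][Y]} (hs : s ∉ q) (hsf : s * W.polynomial ∈ q ^ 2) :
    (W.map φ).toAffine.polynomialX.evalEval x y = 0 ∧ (W.map φ).toAffine.polynomialY.evalEval x y = 0 := by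
  let ι := TrivSqZeroExt.inlHom K K
  let ev : K → K → R[X][Y] →+* TrivSqZeroExt K K := fun a b =>
    eval₂RingHom (eval₂RingHom (ι.comp φ) (TrivSqZeroExt.inl x + TrivSqZeroExt.inr a))
      (TrivSqZeroExt.inl y + TrivSqZeroExt.inr b)
  have hfst : ∀ a b p, (ev a b p).fst = eval₂ (eval₂RingHom φ x) y p := by
    intro a b p
    have : (TrivSqZeroExt.fstHom K K K).toRingHom.comp (ev a b) = eval₂RingHom (eval₂RingHom φ x) y := by
      apply Polynomial.ringHom_ext'
      · apply Polynomial.ringHom_ext'
        · ext r; simp [ev, ι]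
        · simp [ev, ι]
      · simp [ev, ι]
    exact DFunLike.congr_fun this p
  have key : ∀ a b, (ev a b W.polynomial).snd = 0 := by
    intro a b
    have h2 : ev a b (s * W.polynomial) = 0 := by
      have hle : q.map (ev a b) ≤ RingHom.ker (TrivSqZeroExt.fstHom K K K).toRingHom :=
        Ideal.map_le_iff_le_comap.2 fun p hp => (hfst a b p).trans ((hq p).1 hp)
      have h3 := Ideal.mem_map_of_mem (ev a b) hsf
      rw [Ideal.map_pow] at h3
      have h4 := Ideal.pow_right_mono hle 2 h3
      rw [Submodule.pow_succ, Submodule.pow_one] at h4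
      generalize ev a b (s * W.polynomial) = z at h4 ⊢
      induction h4 using Submodule.mul_induction_on' with
      | mem_mul_mem u hu v hv =>
        have hu' : u.fst = 0 := hu
        have hv' : v.fst = 0 := hv
        ext <;> simp [hu', hv']
      | add u _ v _ hu hv => rw [hu, hv, add_zero]
    have h5 := congrArg TrivSqZeroExt.snd h2
    simp only [map_mul, TrivSqZeroExt.snd_mul, TrivSqZeroExt.snd_zero, hfst, (hq _).1 hf] at h5
    simpa [smul_eq_mul, (not_congr (hq s)).1 hs] using h5
  have hX := key 1 0
  have hY := key 0 1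
  simp only [ev, ι, WeierstrassCurve.Affine.polynomial] at hX hY
  constructor
  · rw [WeierstrassCurve.Affine.evalEval_polynomialX]
    simp [smul_eq_mul, pow_succ] at hX
    simp only [WeierstrassCurve.map_a₁, WeierstrassCurve.map_a₂, WeierstrassCurve.map_a₄]
    linear_combination hX
  · rw [WeierstrassCurve.Affine.evalEval_polynomialY]
    simp [smul_eq_mul, pow_succ] at hY
    simp only [WeierstrassCurve.map_a₁, WeierstrassCurve.map_a₃]
    linear_combination hY

variable [IsDomain R] [IsDiscreteValuationRing R]

/-- The Weierstrass scheme is regular at every point which is not a singular point of the generic fibre. -/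
theorem isRegularLocalRing_localization
    (h3 : W.a₃ ∈ maximalIdeal R) (h4 : W.a₄ ∈ maximalIdeal R)
    (h6 : W.a₆ ∈ maximalIdeal R) (h6' : W.a₆ ∉ maximalIdeal R ^ 2)
    (P : Ideal W.CoordinateRing) [P.IsPrime]
    (hP : W.Δ ≠ 0 ∨ ∀ r ∈ maximalIdeal R, algebraMap R W.CoordinateRing r ∈ P) :
    IsRegularLocalRing (Localization.AtPrime P) := by
  refine @isRegularLocalRing_of_notMem_sq _ _ inferInstance W.polynomial P ‹P.IsPrime› ?_
  set q := Ideal.comap (Ideal.Quotient.mk (Ideal.span ({W.polynomial} : Set R[X][Y]))) P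
  intro s hs hsf
  let K := q.ResidueField
  let θ : R[X][Y] →+* K := algebraMap R[X][Y] K
  let φ : R →+* K := θ.comp ((C : R[X] →+* R[X][Y]).comp C)
  let x : K := θ (C X)
  let y : K := θ Y
  have hθ : θ = eval₂RingHom (eval₂RingHom φ x) y := by
    apply Polynomial.ringHom_ext'
    · apply Polynomial.ringHom_ext'
      · ext r; simp [φ]
      · simp [x]
    · simp [y]
  have hq : ∀ b : R[X][Y], b ∈ q ↔ eval₂ (eval₂RingHom φ x) y b = 0 := by
    intro b
    rw [← coe_eval₂RingHom, ← hθ]
    exact (Ideal.algebraMap_residueField_eq_zero).symm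
  have hfq : W.polynomial ∈ q := by
    exact Eq.mpr (congrArg (· ∈ P)
      (Ideal.Quotient.eq_zero_iff_mem.2 (Ideal.mem_span_singleton_self W.polynomial))) P.zero_mem
  obtain ⟨hX, hY⟩ := partials_of_mem_sq W q φ x y hq hfq hs hsf
  have hf : (W.map φ).toAffine.Equation x y := by
    rw [WeierstrassCurve.Affine.equation_iff']
    have := (hq _).1 hfq
    simp [WeierstrassCurve.Affine.polynomial, Polynomial.eval₂_pow] at this
    simp only [WeierstrassCurve.map_a₁, WeierstrassCurve.map_a₂, WeierstrassCurve.map_a₃,
      WeierstrassCurve.map_a₄, WeierstrassCurve.map_a₆]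
    linear_combination this
  have hmφ : ∀ r ∈ maximalIdeal R, φ r = 0 := by
    rcases hP with hΔ | hP
    · have hΔq : φ W.Δ = 0 := by
        by_contra hne
        have hns := (WeierstrassCurve.Affine.equation_iff_nonsingular_of_Δ_ne_zero
          (W := (W.map φ).toAffine) (x := x) (y := y) (by rwa [WeierstrassCurve.map_Δ])).1 hf
        exact hns.2.elim (fun h => h hX) fun h => h hY
      have hker : (RingHom.ker φ).IsPrime := RingHom.ker_isPrime φ
      haveI : (RingHom.ker φ).IsMaximal := hker.isMaximal fun h => hΔ (Ideal.mem_bot.1 (h ▸ hΔq))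
      intro r hr
      rwa [← IsLocalRing.eq_maximalIdeal ‹(RingHom.ker φ).IsMaximal›] at hr
    · intro r hr
      have h : (C (C r) : R[X][Y]) ∈ q := hP r hr
      simpa using (hq _).1 h
  rw [WeierstrassCurve.Affine.equation_iff'] at hf
  rw [WeierstrassCurve.Affine.evalEval_polynomialX] at hX
  rw [WeierstrassCurve.Affine.evalEval_polynomialY] at hY
  simp only [WeierstrassCurve.map_a₁, WeierstrassCurve.map_a₂, WeierstrassCurve.map_a₃,
    WeierstrassCurve.map_a₄, WeierstrassCurve.map_a₆, hmφ _ h3, hmφ _ h4, hmφ _ h6] at hf hX hY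
  have hx3 : x ^ 3 = 0 := by linear_combination 2 * hf - x * hX - y * hY
  have hx : x = 0 := (pow_eq_zero_iff three_ne_zero).1 hx3
  have hy2 : y ^ 2 = 0 := by rw [hx] at hf; linear_combination hf
  have hy : y = 0 := (pow_eq_zero_iff two_ne_zero).1 hy2
  -- evaluate at the origin
  let ev : R[X][Y] →+* R := eval₂RingHom (evalRingHom 0) 0
  have hle : q.map ev ≤ maximalIdeal R := by
    refine Ideal.map_le_iff_le_comap.2 fun b hb => (mem_maximalIdeal _).2 fun hu => ?_
    have h1 : φ (ev b) = 0 := by
      have h2 : φ.comp ev = eval₂RingHom (eval₂RingHom φ x) y := by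
        apply Polynomial.ringHom_ext'
        · apply Polynomial.ringHom_ext'
          · ext r; simp [ev]
          · simp [ev, hx]
        · simp [ev, hy]
      exact (DFunLike.congr_fun h2 b).trans ((hq b).1 hb)
    exact not_isUnit_zero (h1 ▸ hu.map φ)
  have hs' : IsUnit (ev s) := by
    by_contra hnu
    apply hs
    rw [hq]
    have h2 : φ.comp ev = eval₂RingHom (eval₂RingHom φ x) y := by
      apply Polynomial.ringHom_ext'
      · apply Polynomial.ringHom_ext'
        · ext r; simp [ev]
        · simp [ev, hx]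
      · simp [ev, hy]
    exact (DFunLike.congr_fun h2 s).symm.trans (hmφ _ ((mem_maximalIdeal _).2 hnu))
  have h7 := Ideal.pow_right_mono hle 2 (Ideal.map_pow ev q 2 ▸ Ideal.mem_map_of_mem ev hsf)
  rw [map_mul, (maximalIdeal R ^ 2).unit_mul_mem_iff_mem hs'] at h7
  apply h6'
  have : ev W.polynomial = -W.a₆ := by
    simp [ev, WeierstrassCurve.Affine.polynomial, Polynomial.coeff_zero_eq_eval_zero]
  rwa [this, Ideal.neg_mem_iff] at h7

end Groth.Agent.WeiReg22
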